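import Groth.Agent.H81.SymReg.Ring
import Mathlib.Algebra.DualNumber
import Mathlib.LinearAlgebra.Dual.Lemmas

/-!
# Moved cotangent directions in a tensor power
-/

set_option autoImplicit false
set_option linter.style.haveILetI false

universe u w

namespace Groth.Agent.H81.SymReg.Moves

variable {k C R : Type u} [Field k] [IsAlgClosed k] [CommRing C] [Algebra k C] [Algebra.FiniteType k C]
  [CommRing R] [Algebra k R] [Algebra.FiniteType k R] {G : Type w} [Group G] [MulSemiringAction G R]

/-- Two independent cotangent directions at a regular point of dimension at least two. -/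
theorem exists_pair (n0 : Ideal C) [n0.IsMaximal] [IsRegularLocalRing (Localization.AtPrime n0)]
    (h2 : 2 ≤ ringKrullDim (Localization.AtPrime n0)) :
    ∃ c : Fin 2 → C, (∀ a, c a ∈ n0) ∧ ∀ a b : k, a • c 0 + b • c 1 ∈ n0 ^ 2 → a = 0 ∧ b = 0 := by
  classical
  haveI : IsNoetherianRing C := Algebra.FiniteType.isNoetherianRing k C
  let L := Localization.AtPrime n0
  have hle : ∀ s : Finset C, s.card ≤ 1 → (∀ x ∈ s, x ∈ n0) → ∃ c ∈ n0, c ∉ Ideal.span (s : Set C) ⊔ n0 ^ 2 := by
    intro s hs hsn
    by_contra! h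
    have h1 : IsLocalRing.maximalIdeal L ≤ Ideal.span (algebraMap C L '' (s : Set C)) ⊔
        IsLocalRing.maximalIdeal L • IsLocalRing.maximalIdeal L := by
      rw [smul_eq_mul, ← pow_two, ← Localization.AtPrime.map_eq_maximalIdeal, ← Ideal.map_span,
        ← Ideal.map_pow, ← Ideal.map_sup]
      exact Ideal.map_mono h
    have h3 : IsLocalRing.maximalIdeal L = Ideal.span (algebraMap C L '' (s : Set C)) := by
      refine le_antisymm (Submodule.le_of_le_smul_of_le_jacobson_bot (IsNoetherian.noetherian _)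
        (IsLocalRing.maximalIdeal_le_jacobson _) h1) (Ideal.span_le.2 ?_)
      rintro _ ⟨x, hx, rfl⟩
      exact (IsLocalization.AtPrime.to_map_mem_maximal_iff L n0 _).2 (hsn x hx)
    have hdim := IsRegularLocalRing.spanFinrank_maximalIdeal (R := L)
    rw [← hdim] at h2
    have hspan : (IsLocalRing.maximalIdeal L).spanFinrank ≤ 1 := by
      rw [h3]
      refine (Submodule.spanFinrank_span_le_ncard_of_finite (s.finite_toSet.image _)).trans ?_
      exact (Set.ncard_image_le s.finite_toSet).trans (by rwa [Set.ncard_coe_finset])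
    exact absurd (Nat.le_trans (by exact_mod_cast h2) hspan) (by norm_num)
  obtain ⟨c1, h1, h1'⟩ := hle ∅ (by simp) (by simp)
  obtain ⟨c2, h2', h2''⟩ := hle {c1} (by simp) (by simpa using h1)
  rw [Finset.coe_empty, Ideal.span_empty, bot_sup_eq] at h1'
  rw [Finset.coe_singleton] at h2''
  refine ⟨![c1, c2], fun a => by fin_cases a <;> assumption, fun a b hab => ?_⟩
  simp only [Matrix.cons_val_zero, Matrix.cons_val_one] at hab
  have hb : b = 0 := by
    by_contra hb
    refine h2'' (?_ : c2 ∈ _)
    have : c2 = algebraMap k C b⁻¹ * (a • c1 + b • c2) - (algebraMap k C (b⁻¹ * a)) * c1 := by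
      rw [Algebra.smul_def, Algebra.smul_def, mul_add, ← mul_assoc, ← mul_assoc, ← map_mul, ← map_mul,
        inv_mul_cancel₀ hb, map_one, one_mul, add_sub_cancel_left]
    rw [this]
    exact sub_mem (Ideal.mem_sup_right (Ideal.mul_mem_left _ _ hab))
      (Ideal.mem_sup_left (Ideal.mul_mem_left _ _ (Ideal.mem_span_singleton_self _)))
  refine ⟨?_, hb⟩
  by_contra ha
  rw [hb, zero_smul, add_zero] at hab
  refine h1' ?_
  have := (n0 ^ 2).mul_mem_left (algebraMap k C a⁻¹) hab
  rwa [← Algebra.smul_def, inv_smul_smul₀ ha] at this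

/-- The moved elements span two cotangent directions. -/
theorem moves {ι : Type w} (p : ι → C →ₐ[k] R) (σ : G → ι → ι) (hσ : ∀ g : G, g ≠ 1 → ∃ i, σ g i ≠ i)
    (hp : ∀ g i c, g • p i c = p (σ g i) c)
    (hlift : ∀ (F : ι → C →ₐ[k] DualNumber k), ∃ Φ : R →ₐ[k] DualNumber k, ∀ i c, Φ (p i c) = F i c)
    (hext : ∀ φ ψ : R →ₐ[k] k, (∀ i c, φ (p i c) = ψ (p i c)) → φ = ψ)
    (hC : ∀ (n0 : Ideal C) [n0.IsMaximal], IsRegularLocalRing (Localization.AtPrime n0) ∧
      2 ≤ ringKrullDim (Localization.AtPrime n0)) :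
    Ring.Moves k R G := by
  classical
  intro m hm g hg hgm
  haveI := hm
  obtain ⟨i, hij⟩ := hσ g hg
  letI : Field (R ⧸ m) := Ideal.Quotient.field m
  haveI : Module.Finite k (R ⧸ m) := finite_of_finite_type_of_isJacobsonRing k (R ⧸ m)
  let y : R →ₐ[k] k := ((AlgEquiv.ofBijective (Algebra.ofId k (R ⧸ m))
    IsAlgClosed.algebraMap_bijective_of_isIntegral).symm.toAlgHom).comp (Ideal.Quotient.mkₐ k m)
  have hym : ∀ r, y r = 0 ↔ r ∈ m := fun r => by
    simp [y, Ideal.Quotient.eq_zero_iff_mem]
  let x : ι → C →ₐ[k] k := fun l => y.comp (p l)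
  have hx : x (σ g i) = x i := AlgHom.ext fun c => by
    have := (hym _).2 (hgm (p i c))
    rwa [map_sub, sub_eq_zero, hp] at this
  have hker : (RingHom.ker (x i)).IsMaximal :=
    RingHom.ker_isMaximal_of_surjective (x i) fun a => ⟨algebraMap k C a, by simp⟩
  obtain ⟨hreg, hdim⟩ := hC (RingHom.ker (x i))
  haveI := hreg
  obtain ⟨c, hc, hind⟩ := exists_pair (k := k) (RingHom.ker (x i)) hdim
  have hc' : ∀ a, x i (c a) = 0 := fun a => hc a
  let e : Fin 2 → R := fun a => p i (c a) - g • p i (c a)
  refine ⟨e 0, e 1, ?_, ?_, fun Q hQ => ⟨?_, ?_⟩, fun a b hab => ?_⟩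
  · simpa [e] using m.neg_mem (hgm (p i (c 0)))
  · simpa [e] using m.neg_mem (hgm (p i (c 1)))
  · simpa [e] using Q.neg_mem (hQ (p i (c 0)))
  · simpa [e] using Q.neg_mem (hQ (p i (c 1)))
  refine hind a b ?_
  by_contra hn
  obtain ⟨φ, hφ1, hφK⟩ := Submodule.exists_dual_map_eq_bot_of_notMem
    (p := ((RingHom.ker (x i) ^ 2).restrictScalars k) ⊔ Submodule.span k {(1 : C)}) (x := a • c 0 + b • c 1)
    (by
      intro h
      obtain ⟨u, hu, v, hv, huv⟩ := Submodule.mem_sup.1 h
      obtain ⟨t, rfl⟩ := Submodule.mem_span_singleton.1 hv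
      have hu' : x i u = 0 := RingHom.mem_ker.1 (Ideal.pow_le_self two_ne_zero hu)
      have := congrArg (x i) huv
      simp only [map_add, map_smul, hu', hc', smul_zero, add_zero, zero_add, map_one, smul_eq_mul, mul_one] at this
      simp only [this, mul_zero, add_zero, zero_smul] at huv
      exact hn (huv ▸ hu)) inferInstance
  have hφ0 : ∀ z ∈ ((RingHom.ker (x i) ^ 2).restrictScalars k) ⊔ Submodule.span k {(1 : C)}, φ z = 0 := fun z hz => by
    have := Submodule.mem_map_of_mem (f := φ) hz
    rwa [hφK, Submodule.mem_bot] at this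
  let F : C →ₐ[k] DualNumber k :=
    { toFun := fun z => TrivSqZeroExt.inl (x i z) + TrivSqZeroExt.inr (φ z)
      map_one' := by
        rw [hφ0 1 (Submodule.mem_sup_right (Submodule.mem_span_singleton_self _))]
        simp
      map_mul' := fun s t => by
        have h : (s - algebraMap k C (x i s)) * (t - algebraMap k C (x i t)) ∈ RingHom.ker (x i) ^ 2 := by
          rw [pow_two]; exact Ideal.mul_mem_mul (by simp) (by simp)
        have h' := hφ0 _ (Submodule.mem_sup_left (show _ ∈ (RingHom.ker (x i) ^ 2).restrictScalars k from h))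
        have h1 := hφ0 1 (Submodule.mem_sup_right (Submodule.mem_span_singleton_self _))
        have e1 : (s - algebraMap k C (x i s)) * (t - algebraMap k C (x i t)) =
            s * t - x i t • s - x i s • t + (x i s * x i t) • (1 : C) := by
          simp only [Algebra.smul_def, map_mul]
          ring
        rw [e1, map_add, map_sub, map_sub, map_smul, map_smul, map_smul, h1, smul_zero, add_zero, smul_eq_mul,
          smul_eq_mul, sub_sub, sub_eq_zero] at h'
        refine TrivSqZeroExt.ext ?_ ?_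
        · simp
        · simp [h']
          ring
      map_zero' := by simp
      map_add' := fun s t => by refine TrivSqZeroExt.ext ?_ ?_ <;> simp
      commutes' := fun r => by
        have : φ (algebraMap k C r) = 0 := hφ0 _ (Submodule.mem_sup_right
          (Submodule.mem_span_singleton.2 ⟨r, (Algebra.algebraMap_eq_smul_one r).symm⟩))
        refine TrivSqZeroExt.ext ?_ ?_ <;> simp [this, TrivSqZeroExt.algebraMap_eq_inl] }
  obtain ⟨Φ, hΦ⟩ := hlift fun l => if l = i then F else (Algebra.ofId k (DualNumber k)).comp (x l)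
  have hfst : (TrivSqZeroExt.fstHom k k k).comp Φ = y := hext _ _ fun l z => by
    simp only [AlgHom.comp_apply, hΦ]
    by_cases hl : l = i
    · subst hl; simp [F, x]
    · simp [hl, x, TrivSqZeroExt.algebraMap_eq_inl]
  have hm2 : ∀ r ∈ m ^ 2, TrivSqZeroExt.snd (Φ r) = 0 := fun r hr => by
    rw [pow_two] at hr
    induction hr using Submodule.mul_induction_on' with
    | mem_mul_mem s hs t ht =>
      have hs' : TrivSqZeroExt.fst (Φ s) = 0 := by
        rw [← TrivSqZeroExt.fstHom_apply k k, ← AlgHom.comp_apply, hfst, hym]; exact hs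
      have ht' : TrivSqZeroExt.fst (Φ t) = 0 := by
        rw [← TrivSqZeroExt.fstHom_apply k k, ← AlgHom.comp_apply, hfst, hym]; exact ht
      simp [hs', ht']
    | add s _ t _ hs ht => simp [hs, ht]
  have he : ∀ d, TrivSqZeroExt.snd (Φ (e d)) = φ (c d) := fun d => by
    have : x (σ g i) (c d) = 0 := by rw [hx]; exact hc' d
    simp [e, hp, hΦ, hij, F, this]
  have h := hm2 _ hab
  simp only [map_add, map_smul, TrivSqZeroExt.snd_add, TrivSqZeroExt.snd_smul, he] at h
  refine hφ1 ?_
  rw [map_add, map_smul, map_smul]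
  exact h

end Groth.Agent.H81.SymReg.Moves
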