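import Groth.Agent.Lib.Purity.Galois
import Groth.Agent.Lib.Regular.UFD
import Groth.Agent.Lib.Regular.Quotient
import Groth.Agent.Lib.Regular.Descent
import Groth.Agent.Lib.Dim.Integral
import Mathlib.RingTheory.Artinian.Module
import Mathlib.RingTheory.Jacobson.Ring
import Mathlib.FieldTheory.IsAlgClosed.Basic
import Mathlib.RingTheory.Adjoin.Tower
import Mathlib.RingTheory.RingHom.Flat

/-!
# Regularity of invariants when fixed loci have codimension at least two
-/

set_option autoImplicit false
set_option linter.style.haveILetI false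

universe u w

open scoped Pointwise
open Groth.Agent.Lib.Purity.Galois

namespace Groth.Agent.H81.SymReg.Ring

variable {k R : Type u} [Field k] [IsAlgClosed k] [CommRing R] [IsDomain R] [Algebra k R]
  [Algebra.FiniteType k R] {G : Type w} [Group G] [MulSemiringAction G R] [SMulCommClass G k R]

/-- At fixed maximal ideals the moved elements span at least two cotangent directions. -/
def Moves (k R : Type u) (G : Type w) [Field k] [CommRing R] [Algebra k R] [Group G] [MulSemiringAction G R] : Prop :=
  ∀ (m : Ideal R), m.IsMaximal → ∀ g : G, g ≠ 1 → (∀ r : R, g • r - r ∈ m) →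
    ∃ e₁ e₂ : R, e₁ ∈ m ∧ e₂ ∈ m ∧
      (∀ Q : Ideal R, (∀ r, g • r - r ∈ Q) → e₁ ∈ Q ∧ e₂ ∈ Q) ∧
      ∀ a b : k, a • e₁ + b • e₂ ∈ m ^ 2 → a = 0 ∧ b = 0

/-- Every element is congruent to a constant modulo a maximal ideal. -/
theorem exists_const (m : Ideal R) [m.IsMaximal] (r : R) : ∃ c : k, r - algebraMap k R c ∈ m := by
  letI : Field (R ⧸ m) := Ideal.Quotient.field m
  haveI : Module.Finite k (R ⧸ m) := finite_of_finite_type_of_isJacobsonRing k (R ⧸ m)
  haveI : Algebra.IsIntegral k (R ⧸ m) := Algebra.IsIntegral.of_finite k _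
  obtain ⟨c, hc⟩ := (IsAlgClosed.algebraMap_bijective_of_isIntegral (k := k) (K := R ⧸ m)).2
    (Ideal.Quotient.mk m r)
  refine ⟨c, ?_⟩
  rw [← Ideal.Quotient.eq_zero_iff_mem, map_sub, ← hc, sub_eq_zero]
  rfl

variable (hreg : ∀ (m : Ideal R) [m.IsMaximal], IsRegularLocalRing (Localization.AtPrime m))
  (hmv : Moves k R G)

include hreg hmv

/-- A prime with nontrivial inertia has height at least two. -/
theorem two_le_height (Q : Ideal R) [Q.IsPrime] (g : G) (hg : g ≠ 1) (hQ : ∀ r : R, g • r - r ∈ Q) :
    2 ≤ Q.height := by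
  obtain ⟨m, hm, hQm⟩ := Q.exists_le_maximal (Ideal.IsPrime.ne_top ‹_›)
  haveI := hm
  obtain ⟨e₁, e₂, h1m, h2m, hin, hind⟩ := hmv m hm g hg fun r => hQm (hQ r)
  obtain ⟨h1Q, h2Q⟩ := hin Q hQ
  haveI := hreg m
  let L := Localization.AtPrime m
  have hmem : ∀ x ∈ m, algebraMap R L x ∈ IsLocalRing.maximalIdeal L := fun x hx =>
    (IsLocalization.AtPrime.to_map_mem_maximal_iff L m x).2 hx
  have hsq : ∀ x : R, algebraMap R L x ∈ IsLocalRing.maximalIdeal L ^ 2 → x ∈ m ^ 2 := fun x hx => by
    rw [← Localization.AtPrime.map_eq_maximalIdeal, ← Ideal.map_pow,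
      IsLocalization.algebraMap_mem_map_algebraMap_iff m.primeCompl] at hx
    obtain ⟨s, hs, hsx⟩ := hx
    obtain ⟨t, ht⟩ := (‹m.IsMaximal›).exists_inv hs
    obtain ⟨i, hi, hti⟩ := ht
    have hti' : t * s + i = 1 := hti
    obtain ⟨j, hj⟩ : ∃ j, x = t * (s * x) + i * x := ⟨0, by rw [← mul_assoc, ← add_mul, hti', one_mul]⟩
    have hxm : x ∈ m := by
      rw [hj]; exact add_mem (m.mul_mem_left _ (Ideal.pow_le_self two_ne_zero hsx)) (m.mul_mem_right _ hi)
    rw [hj]
    exact add_mem (Ideal.mul_mem_left _ _ hsx) (by rw [pow_two]; exact Ideal.mul_mem_mul hi hxm)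
  have h1sq : algebraMap R L e₁ ∉ IsLocalRing.maximalIdeal L ^ 2 := fun h => one_ne_zero
    (hind 1 0 (by rw [one_smul, zero_smul, add_zero]; exact hsq _ h)).1
  obtain ⟨hreg1, -⟩ := Groth.Agent.Lib.Regular.Quotient.quotient_singleton (hmem _ h1m) h1sq
  haveI := hreg1
  haveI := Groth.Agent.Lib.Regular.Quotient.isDomain (L ⧸ Ideal.span {algebraMap R L e₁})
  haveI hpr : (Ideal.span {algebraMap R L e₁}).IsPrime := Ideal.Quotient.isDomain_iff_prime _ |>.1 inferInstance
  let P1 : Ideal R := (Ideal.span {algebraMap R L e₁}).comap (algebraMap R L)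
  haveI : P1.IsPrime := Ideal.IsPrime.comap _
  have key : ∀ y ∈ P1, ∃ (a : R) (s : R), s ∉ m ∧ s * y = a * e₁ := fun y hy => by
    have hy' : algebraMap R L y ∈ (Ideal.span {e₁}).map (algebraMap R L) := by
      rw [Ideal.map_span, Set.image_singleton]; exact hy
    rw [IsLocalization.algebraMap_mem_map_algebraMap_iff m.primeCompl] at hy'
    obtain ⟨s, hs, hsy⟩ := hy'
    obtain ⟨a, ha⟩ := Ideal.mem_span_singleton'.1 hsy
    exact ⟨a, s, hs, ha.symm⟩
  have hP1Q : P1 ≤ Q := fun y hy => by
    obtain ⟨a, s, hs, hsy⟩ := key y hy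
    exact ((‹Q.IsPrime›).mem_or_mem (hsy ▸ Q.mul_mem_left a h1Q)).resolve_left fun h => hs (hQm h)
  have he2 : e₂ ∉ P1 := fun h => by
    obtain ⟨a, s, hs, hsy⟩ := key e₂ h
    obtain ⟨c, hc⟩ := exists_const (k := k) m s
    obtain ⟨a0, ha0⟩ := exists_const (k := k) m a
    have : c • e₂ - a0 • e₁ ∈ m ^ 2 := by
      have e : c • e₂ - a0 • e₁ = (a - algebraMap k R a0) * e₁ - (s - algebraMap k R c) * e₂ := by
        rw [Algebra.smul_def, Algebra.smul_def, sub_mul, sub_mul, hsy]
        ring
      rw [e, pow_two]
      exact sub_mem (Ideal.mul_mem_mul ha0 h1m) (Ideal.mul_mem_mul hc h2m)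
    have hz := hind (-a0) c (by rw [neg_smul, neg_add_eq_sub]; exact this)
    refine hs ?_
    simpa [hz.2] using hc
  have he1 : e₁ ≠ 0 := fun h => one_ne_zero (hind 1 0 (by rw [h]; simp)).1
  have h1P1 : e₁ ∈ P1 := Ideal.mem_span_singleton_self _
  have hlt1 : P1 < Q := lt_of_le_of_ne hP1Q fun h => he2 (h ▸ h2Q)
  have hlt0 : (⊥ : Ideal R) < P1 := bot_lt_iff_ne_bot.2 fun h => he1 (by rwa [h, Ideal.mem_bot] at h1P1)
  haveI : (⊥ : Ideal R).IsPrime := Ideal.isPrime_bot
  haveI : IsNoetherianRing R := Algebra.FiniteType.isNoetherianRing k R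
  have a1 : (⊥ : Ideal R).height < P1.height := Ideal.height_strict_mono_of_isPrime hlt0
  have a2 : P1.height < Q.height := Ideal.height_strict_mono_of_isPrime hlt1
  rw [Ideal.height_bot] at a1
  have b1 : (1 : ℕ∞) ≤ P1.height := Order.one_le_iff_pos.2 a1
  calc (2 : ℕ∞) = 1 + 1 := rfl
    _ ≤ P1.height + 1 := by gcongr
    _ ≤ Q.height := Order.add_one_le_of_lt a2

/-- The action is faithful. -/
theorem faithful : FaithfulSMul G R := by
  refine ⟨fun {g g'} h => ?_⟩
  by_contra hne
  haveI : (⊥ : Ideal R).IsPrime := Ideal.isPrime_bot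
  have := two_le_height hreg hmv (⊥ : Ideal R) (g'⁻¹ * g) (fun h' => hne (inv_mul_eq_one.1 h').symm) fun r => by
    rw [Ideal.mem_bot, sub_eq_zero, mul_smul, h r, inv_smul_smul]
  rw [Ideal.height_bot] at this
  simp at this

/-- The local ring of the invariants is regular exactly at free orbits. -/
theorem isRegular_iff [Finite G] (B : Type u) [CommRing B] [Algebra B R] [SMulCommClass G B R]
    [Algebra.IsInvariant B R G] (hinj : Function.Injective (algebraMap B R)) (m : Ideal R) [m.IsMaximal] :
    IsRegularLocalRing (Localization.AtPrime (m.comap (algebraMap B R))) ↔ ∀ g : G, g ≠ 1 → g • m ≠ m := by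
  classical
  haveI := Fintype.ofFinite G
  haveI : IsNoetherianRing R := Algebra.FiniteType.isNoetherianRing k R
  haveI : Algebra.IsIntegral B R := Algebra.IsInvariant.isIntegral B R G
  haveI := faithful hreg hmv
  haveI : FaithfulSMul B R := (faithfulSMul_iff_algebraMap_injective B R).mpr hinj
  have hfix : ∀ a : R, (∀ g : G, g • a = a) → a ∈ Set.range (algebraMap B R) := fun a ha =>
    Algebra.IsInvariant.isInvariant (A := B) (G := G) a ha
  -- finiteness, by Artin–Tate
  let B' := FixedPoints.subalgebra k R G
  haveI : Algebra.IsInvariant B' R G := ⟨fun b hb => ⟨⟨b, hb⟩, rfl⟩⟩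
  haveI : SMulCommClass G B' R := ⟨fun g b x => by
    change g • ((b : R) * x) = (b : R) * (g • x)
    rw [smul_mul', show g • (b : R) = b from b.2 g]⟩
  haveI : Algebra.IsIntegral B' R := Algebra.IsInvariant.isIntegral B' R G
  haveI : Algebra.FiniteType B' R := Algebra.FiniteType.of_restrictScalars_finiteType k B' R
  haveI : Module.Finite B' R := Algebra.IsIntegral.finite
  haveI : Algebra.FiniteType k B' :=
    ⟨fg_of_fg_of_fg k B' R Algebra.FiniteType.out Module.Finite.fg_top Subtype.val_injective⟩
  haveI : IsNoetherianRing B' := Algebra.FiniteType.isNoetherianRing k B'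
  let eB : B →+* B' := (algebraMap B R).codRestrict B' fun b g => smul_algebraMap g b
  have heB : Function.Bijective eB := ⟨fun a b h => hinj (congrArg Subtype.val h), fun b => by
    obtain ⟨a, ha⟩ := hfix b fun g => b.2 g
    exact ⟨a, Subtype.ext ha⟩⟩
  haveI : IsNoetherianRing B := isNoetherianRing_of_ringEquiv B' (RingEquiv.ofBijective eB heB).symm
  haveI : Module.Finite B R := by
    obtain ⟨s, hs⟩ := (inferInstance : Module.Finite B' R).fg_top
    refine ⟨s, eq_top_iff.2 fun x hxt => ?_⟩
    clear hxt
    have hx : x ∈ Submodule.span B' (s : Set R) := hs ▸ trivial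
    induction hx using Submodule.span_induction with
    | mem y hy => exact Submodule.subset_span hy
    | zero => exact zero_mem _
    | add y z _ _ hy hz => exact add_mem hy hz
    | smul b y _ hy =>
      obtain ⟨a, ha⟩ := heB.2 b
      have : b • y = a • y := by rw [← ha, Algebra.smul_def a y]; rfl
      rw [this]; exact Submodule.smul_mem _ _ hy
  haveI hnormal : IsIntegrallyClosed R := IsIntegrallyClosed.of_localization_maximal fun P _ hP => by
    haveI := hreg P
    exact Groth.Agent.Lib.Regular.UFD.isIntegrallyClosed _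
  -- localisation at the prime of the invariants
  let p := m.comap (algebraMap B R)
  let S := Algebra.algebraMapSubmonoid R p.primeCompl
  let R' := Localization.AtPrime p
  let A := Localization S
  have hS : S ≤ nonZeroDivisors R := by
    rintro _ ⟨b, hb, rfl⟩
    exact mem_nonZeroDivisors_of_ne_zero fun h => hb (show algebraMap B R b ∈ m by rw [h]; exact zero_mem _)
  letI : Algebra R' A := localizationAlgebra p.primeCompl R
  haveI : IsScalarTower B R' A := IsScalarTower.of_algebraMap_eq' (IsLocalization.map_comp _).symm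
  haveI : IsDomain A := IsLocalization.isDomain_of_le_nonZeroDivisors _ hS
  have hSg : ∀ g : G, S ≤ S.comap (MulSemiringAction.toRingHom G R g) := by
    rintro g _ ⟨b, hb, rfl⟩
    exact ⟨b, hb, (smul_algebraMap g b).symm⟩
  let ρ : G → A →+* A := fun g => IsLocalization.map A (MulSemiringAction.toRingHom G R g) (hSg g)
  have hρ : ∀ g (r : R), ρ g (algebraMap R A r) = algebraMap R A (g • r) := fun g r =>
    IsLocalization.map_eq _ r
  have ρone : ∀ z : A, ρ 1 z = z := fun z => RingHom.congr_fun
    (IsLocalization.ringHom_ext S (j := ρ 1) (k := RingHom.id A) (RingHom.ext fun r => by simp [hρ])) z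
  have ρmul : ∀ (g h : G) (z : A), ρ (g * h) z = ρ g (ρ h z) := fun g h z => RingHom.congr_fun
    (IsLocalization.ringHom_ext S (j := ρ (g * h)) (k := (ρ g).comp (ρ h))
      (RingHom.ext fun r => by simp [hρ, mul_smul])) z
  letI : MulSemiringAction G A :=
    { smul := fun g z => ρ g z
      one_smul := ρone
      mul_smul := ρmul
      smul_zero := fun g => map_zero (ρ g)
      smul_add := fun g => map_add (ρ g)
      smul_one := fun g => map_one (ρ g)
      smul_mul := fun g => map_mul (ρ g) }
  have hsmul : ∀ g (r : R), g • algebraMap R A r = algebraMap R A (g • r) := hρ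
  have hρR' : ∀ g (c : R'), ρ g (algebraMap R' A c) = algebraMap R' A c := fun g c => RingHom.congr_fun
    (IsLocalization.ringHom_ext p.primeCompl (j := (ρ g).comp (algebraMap R' A)) (k := algebraMap R' A)
      (RingHom.ext fun b => by
        simp only [RingHom.comp_apply, ← IsScalarTower.algebraMap_apply B R' A,
          IsScalarTower.algebraMap_apply B R A, hρ, smul_algebraMap])) c
  haveI : SMulCommClass G R' A := ⟨fun g c x => by
    change ρ g (c • x) = c • ρ g x
    rw [Algebra.smul_def, Algebra.smul_def, map_mul, hρR']⟩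
  haveI : Module.Finite R' A := Module.Finite.of_isLocalization B R p.primeCompl
  have hinj' : Function.Injective (algebraMap R' A) :=
    haveI : IsLocalization (p.primeCompl.map (algebraMap B R)) A := (inferInstance : IsLocalization S A)
    IsLocalization.map_injective_of_injective (M := p.primeCompl) R' A hinj
  have hfix' : ∀ a : A, (∀ g : G, g • a = a) → a ∈ Set.range (algebraMap R' A) := by
    intro a ha
    obtain ⟨r, ⟨s, b, hb, rfl⟩, rfl⟩ := IsLocalization.exists_mk'_eq S a
    have hr : ∀ g : G, g • r = r := fun g => by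
      apply IsLocalization.injective A hS
      have := congrArg (ρ g) (IsLocalization.mk'_spec A r (⟨algebraMap B R b, b, hb, rfl⟩ : S))
      rw [map_mul, hρ, hρ, smul_algebraMap] at this
      rw [← this, show ρ g (IsLocalization.mk' A r _) = _ from ha g, IsLocalization.mk'_spec]
    obtain ⟨c, rfl⟩ := hfix r hr
    refine ⟨IsLocalization.mk' R' c (⟨b, hb⟩ : p.primeCompl), ?_⟩
    exact IsLocalization.map_mk' _ _ _
  constructor
  · intro hR' g hg hgm
    haveI : IsRegularLocalRing R' := hR'
    haveI : IsIntegrallyClosed A := isIntegrallyClosed_of_isLocalization _ S hS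
    have hgal : IsGaloisCodimOne R' A G := by
      intro P hP hPr
      haveI := hP
      haveI : Algebra.IsIntegral R' A := Algebra.IsIntegral.of_finite R' A
      refine exists_notMem_rep P fun Q hQ hQP => ?_
      haveI := hQ
      rw [Subgroup.eq_bot_iff_forall]
      intro h hh
      by_contra hne
      have hP1 : Q.height ≤ 1 := by
        refine (Groth.Agent.Lib.Dim.Integral.height_le_height_under (R := R') Q).trans ?_
        rw [show Q.under R' = P from hQP]
        haveI := hPr
        refine Ideal.height_le_one_of_isPrincipal_of_mem_minimalPrimes P P ?_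
        rw [Ideal.minimalPrimes_eq_subsingleton_self]
        exact rfl
      haveI : (Q.comap (algebraMap R A)).IsPrime := Ideal.IsPrime.comap _
      have h2 := two_le_height hreg hmv (Q.comap (algebraMap R A)) h hne fun r => by
        rw [Ideal.mem_comap, map_sub, ← hsmul]
        exact hh (algebraMap R A r)
      rw [IsLocalization.height_under S Q] at h2
      exact absurd (h2.trans hP1) (by decide)
    obtain ⟨ι, _, a, b, -, hab⟩ := rep_one hinj' hfix' hgal
    letI : Field (R ⧸ m) := Ideal.Quotient.field m
    let ψ : A →+* R ⧸ m := IsLocalization.lift (M := S) (g := Ideal.Quotient.mk m) fun s => by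
      obtain ⟨_, b, hb, rfl⟩ := s
      exact isUnit_iff_ne_zero.2 fun h => hb (show algebraMap B R b ∈ m from Ideal.Quotient.eq_zero_iff_mem.1 h)
    have hres : ∀ r, g • r - r ∈ m := fun r => by
      obtain ⟨c, hc⟩ := exists_const (k := k) m r
      have := Ideal.smul_mem_pointwise_smul g _ m hc
      rw [hgm, smul_sub, smul_algebraMap] at this
      simpa using sub_mem this hc
    have hψ : ∀ z : A, ψ (g • z) = ψ z := fun z => RingHom.congr_fun
      (IsLocalization.ringHom_ext S (j := ψ.comp (ρ g)) (k := ψ) (RingHom.ext fun r => by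
        simp only [RingHom.comp_apply, hρ, ψ, IsLocalization.lift_eq]
        exact Ideal.Quotient.eq.2 (hres r))) z
    have h1 := congrArg ψ (hab g)
    have h0 := congrArg ψ (hab 1)
    simp only [map_sum, map_mul, hψ, delta, if_neg hg, if_true, one_smul, map_zero, map_one] at h1 h0
    exact one_ne_zero (h0.symm.trans h1)
  · intro hstab
    have hin : ∀ Q : Ideal R, Q.IsPrime → Q.comap (algebraMap B R) = p → Q.inertia G = ⊥ := by
      intro Q hQ hQp
      haveI := hQ
      obtain ⟨h, rfl⟩ := Algebra.IsInvariant.exists_smul_of_under_eq B R G m Q hQp.symm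
      rw [Subgroup.eq_bot_iff_forall]
      intro g hg
      by_contra hne
      refine hstab (h⁻¹ * g * h) (fun e => hne ?_) ?_
      · have := congrArg (fun x => h * x * h⁻¹) e
        simpa [mul_assoc] using this
      · ext z
        have hq : ∀ r, g • r - r ∈ h • m := hg
        have hz : (h⁻¹ * g⁻¹ * h) • z - z ∈ m := by
          have := hq (g⁻¹ • h • z)
          rw [smul_inv_smul, Ideal.mem_pointwise_smul_iff_inv_smul_mem, smul_sub, inv_smul_smul] at this
          rw [mul_smul, mul_smul]
          simpa using m.neg_mem this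
        rw [Ideal.mem_pointwise_smul_iff_inv_smul_mem, show (h⁻¹ * g * h)⁻¹ = h⁻¹ * g⁻¹ * h from by group]
        exact ⟨fun hh => by simpa using sub_mem hh hz, fun hh => by simpa using add_mem hz hh⟩
    obtain ⟨D, hD, hrep⟩ := exists_notMem_rep (R := B) (A := R) (G := G) p hin
    obtain ⟨ι, _, a, b, -, hab⟩ := hrep.trace_identity
    choose tr htr using fun x : A => trace_mem (G := G) hfix' x
    have hDu : IsUnit (algebraMap R A (algebraMap B R D)) :=
      IsLocalization.map_units A (⟨_, D, hD, rfl⟩ : S)
    obtain ⟨dinv, hdinv⟩ := hDu.exists_left_inv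
    let T : A →ₗ[R'] ι → R' :=
      { toFun := fun x i => tr (algebraMap R A (b i) * x)
        map_add' := fun x y => funext fun i => hinj' <| by
          simp [htr, mul_add, Finset.sum_add_distrib]
        map_smul' := fun c x => funext fun i => hinj' <| by
          simp [htr, Finset.smul_sum, smul_comm _ c, Algebra.mul_smul_comm, ← Algebra.smul_def] }
    let Pm : (ι → R') →ₗ[R'] A :=
      { toFun := fun v => dinv * ∑ i, v i • algebraMap R A (a i)
        map_add' := fun v w => by simp [add_smul, mul_add, Finset.sum_add_distrib]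
        map_smul' := fun c v => by simp [mul_smul, ← Finset.smul_sum, Algebra.mul_smul_comm] }
    have hPT : Pm ∘ₗ T = LinearMap.id := by
      refine LinearMap.ext fun x => ?_
      obtain ⟨r, s, rfl⟩ := IsLocalization.exists_mk'_eq S x
      refine (IsLocalization.map_units A s).mul_right_cancel ?_
      change dinv * (∑ i, tr (algebraMap R A (b i) * _) • algebraMap R A (a i)) * _ = _ * _
      simp only [Algebra.smul_def, htr, LinearMap.id_apply, IsLocalization.mk'_spec, mul_assoc, Finset.sum_mul]
      have hs : ∀ g : G, g • algebraMap R A (s : R) = algebraMap R A (s : R) := fun g => by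
        obtain ⟨_, b', hb', rfl⟩ := s
        rw [hsmul, smul_algebraMap]
      have e : ∀ i, (∑ g : G, g • (algebraMap R A (b i) * IsLocalization.mk' A r s)) *
          (algebraMap R A (a i) * algebraMap R A (s : R)) =
          algebraMap R A (a i * ∑ g : G, g • (b i * r)) := fun i => by
        rw [mul_left_comm, map_mul, map_sum]
        erw [Finset.sum_mul]
        congr 1
        refine Finset.sum_congr rfl fun g _ => ?_
        rw [← hs g, ← smul_mul', mul_assoc, IsLocalization.mk'_spec, ← map_mul, hsmul]
      erw [Finset.sum_mul]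
      simp only [mul_assoc]
      rw [Finset.sum_congr rfl fun i _ => e i, ← map_sum, ← hab, map_mul, ← mul_assoc, hdinv, one_mul]
    haveI : Module.Flat R' A := Module.Flat.of_retract (M := ι → R') T Pm hPT
    haveI := hreg m
    let L := Localization.AtPrime m
    have hSm : ∀ s : S, IsUnit (algebraMap R L s) := fun s => by
      obtain ⟨_, b', hb', rfl⟩ := s
      exact IsLocalization.map_units L (⟨_, hb'⟩ : m.primeCompl)
    letI : Algebra A L := (IsLocalization.lift hSm).toAlgebra
    haveI : IsScalarTower R A L := .of_algebraMap_eq fun x => (IsLocalization.lift_eq _ _).symm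
    haveI : IsLocalization (Algebra.algebraMapSubmonoid A m.primeCompl) L :=
      .isLocalization_of_submonoid_le _ _ S _ (by rintro _ ⟨b', hb', rfl⟩; exact hb')
    haveI : Module.Flat A L := IsLocalization.flat _ (Algebra.algebraMapSubmonoid A m.primeCompl)
    letI : Algebra R' L := ((algebraMap A L).comp (algebraMap R' A)).toAlgebra
    haveI : IsScalarTower R' A L := .of_algebraMap_eq fun _ => rfl
    haveI : Module.Flat R' L := Module.Flat.trans R' A L
    haveI : IsLocalHom (algebraMap R' L) := ⟨fun c hc => by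
      obtain ⟨x, s, rfl⟩ := IsLocalization.exists_mk'_eq p.primeCompl c
      have h1 : algebraMap R' L (IsLocalization.mk' R' x s) * algebraMap R L (algebraMap B R s) =
          algebraMap R L (algebraMap B R x) := by
        rw [IsScalarTower.algebraMap_apply R' A L, IsScalarTower.algebraMap_apply R A L,
          IsScalarTower.algebraMap_apply R A L, ← map_mul, ← IsScalarTower.algebraMap_apply B R A,
          ← IsScalarTower.algebraMap_apply B R A, IsScalarTower.algebraMap_apply B R' A,
          IsScalarTower.algebraMap_apply B R' A, ← map_mul, IsLocalization.mk'_spec]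
      have hx : IsUnit (algebraMap R L (algebraMap B R x)) := h1 ▸
        hc.mul (IsLocalization.map_units L (⟨_, s.2⟩ : m.primeCompl))
      rw [IsLocalization.AtPrime.isUnit_mk'_iff]
      exact fun hxp => (IsLocalization.AtPrime.isUnit_to_map_iff L m _).1 hx hxp⟩
    exact Groth.Agent.Lib.Regular.Descent.isRegularLocalRing_of_flat L

end Groth.Agent.H81.SymReg.Ring
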